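import Cfsg.Agent.Lib.Chev.Subfield.Rat

/-!
Diagonal automorphisms, coordinates at the fundamental roots, and regular unipotent elements.
-/

set_option autoImplicit false

namespace CfsgLib.Chev.E62F4

open Cfsg.Lie Matrix CfsgLib.Chev CfsgLib.KnownB.ChevField

variable {D : ChevalleyDatum} {A : Aux} {F : Type*} [Field F]

lemma wt_one (s : ℕ) : wt D A (1 : ℕ → Fˣ) s = 1 := by simp [wt]

lemma wt_mul (ξ η : ℕ → Fˣ) (s : ℕ) : wt D A (ξ * η) s = wt D A ξ s * wt D A η s := by
  simp [wt, mul_zpow, Finset.prod_mul_distrib]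

variable (D A) in
/-- the diagonal automorphisms as matrices -/
noncomputable def torX : (ℕ → Fˣ) →* GL D.Idx F :=
  MonoidHom.toHomUnits
    { toFun := fun ξ => dia D (fun s => (wt D A ξ s : F))
      map_one' := by
        rw [← dia_one]
        exact congrArg _ (funext fun s => by rw [wt_one, Units.val_one])
      map_mul' := fun ξ η => by
        rw [dia_mul]
        exact congrArg _ (funext fun s => by rw [wt_mul, Units.val_mul]) }

lemma torX_val (ξ : ℕ → Fˣ) :
    ((torX D A ξ : GL D.Idx F) : Matrix D.Idx D.Idx F) = dia D fun s => (wt D A ξ s : F) :=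
  MonoidHom.coe_toHomUnits _ ξ

lemma torX_conj_xG (g : Good D A) (ξ : ℕ → Fˣ) {r : ℕ} (hr : r < D.nroots) (t : F) :
    torX D A ξ * xG g r t * (torX D A ξ)⁻¹ = xG g r ((wt D A ξ r : F) * t) := by
  rw [mul_inv_eq_iff_eq_mul]
  apply Units.ext
  rw [Units.val_mul, Units.val_mul, torX_val, xG_val, xG_val, dia_mul_x g ξ hr]

lemma torX_conj_UP (g : Good D A) (ξ : ℕ → Fˣ) {P : ℕ → Prop} (hP : ∀ r, P r → r < D.nroots)
    {y : GL D.Idx F} (hy : y ∈ UP F g P) : torX D A ξ * y * (torX D A ξ)⁻¹ ∈ UP F g P := by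
  have : UP F g P ≤ (UP F g P).comap (MulAut.conj (torX D A ξ)).toMonoidHom := UP_le fun r t hr => by
    simp only [Subgroup.mem_comap, MulEquiv.coe_toMonoidHom, MulAut.conj_apply, torX_conj_xG g ξ (hP r hr)]
    exact xG_mem_UP g hr _
  exact this hy

lemma torX_conj_group (g : Good D A) (ξ : ℕ → Fˣ) {y : GL D.Idx F} (hy : y ∈ D.group F) :
    torX D A ξ * y * (torX D A ξ)⁻¹ ∈ D.group F := by
  have : D.group F ≤ (D.group F).comap (MulAut.conj (torX D A ξ)).toMonoidHom := by
    conv_lhs => rw [group_eq g]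
    refine (Subgroup.closure_le _).2 ?_
    rintro _ ⟨r, t, hr, rfl⟩
    simp only [SetLike.mem_coe, Subgroup.mem_comap, MulEquiv.coe_toMonoidHom, MulAut.conj_apply,
      torX_conj_xG g ξ hr]
    exact xG_mem_group g _ _
  exact this hy

lemma map_torX (σ : F →+* F) (ξ : ℕ → Fˣ) :
    Matrix.GeneralLinearGroup.map σ (torX D A ξ) =
      torX D A fun i => Units.map (σ : F →* F) (ξ i) := by
  apply Units.ext
  show ((torX D A ξ : GL D.Idx F) : Matrix D.Idx D.Idx F).map σ = _
  rw [torX_val, torX_val, dia, dia, Matrix.diagonal_map σ.map_zero]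
  congr 1
  funext x
  rcases x with j | s
  · exact σ.map_one
  · show σ (wt D A ξ s.val : F) = _
    have : Units.map (σ : F →* F) (wt D A ξ s.val) =
        wt D A (fun i => Units.map (σ : F →* F) (ξ i)) s.val := by
      simp [wt, map_prod, map_zpow]
    exact congrArg Units.val this

/-- a conjugate of an element with nonzero coordinate at a fundamental root -/
lemma coord_conj (h : Std D A) {i : ℕ} (hi : i < D.rank) {u v : GL D.Idx F}
    (hu : u ∈ D.posUnipotent F) (c : Fin D.rank → Fˣ) (hv : v ∈ UP F h.good (posBut D i)) (a : F) :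
    ∃ w ∈ UP F h.good (posBut D i),
      u * tor D A c * (v * xG h.good (D.simple i) a) * (u * tor D A c)⁻¹ =
        w * xG h.good (D.simple i) ((chi D A c (D.simple i) : F) * a) := by
  have g := h.good
  set b : GL D.Idx F := u * tor D A c with hb
  have hbB : b ∈ D.borelSubgroup F := mul_mem (pos_le_borel hu) (tor_mem_borel g c)
  obtain ⟨v₁, hv₁, a₁, rfl⟩ := pos_decomp h hi hu
  set x := xG g (D.simple i) ((chi D A c (D.simple i) : F) * a) with hx
  have hxv : x * v₁⁻¹ * x⁻¹ ∈ UP F g (posBut D i) :=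
    Subfield.posBut_borel h hi (xG_mem_borel g (simple_pos g hi) _) (inv_mem hv₁)
  refine ⟨b * v * b⁻¹ * (v₁ * (x * v₁⁻¹ * x⁻¹)),
    mul_mem (Subfield.posBut_borel h hi hbB hv) (mul_mem hv₁ hxv), ?_⟩
  have e1 : b * xG g (D.simple i) a * b⁻¹ = v₁ * x * v₁⁻¹ := by
    have e2 : xG g (D.simple i) a₁ * x * (xG g (D.simple i) a₁)⁻¹ = x := by
      rw [hx, xG_inv, xG_add, xG_add]; congr 1; ring
    rw [hb, show v₁ * xG g (D.simple i) a₁ * tor D A c * xG g (D.simple i) a *
      (v₁ * xG g (D.simple i) a₁ * tor D A c)⁻¹ = v₁ * (xG g (D.simple i) a₁ *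
      (tor D A c * xG g (D.simple i) a * (tor D A c)⁻¹) * (xG g (D.simple i) a₁)⁻¹) * v₁⁻¹ by group,
      tor_conj_xG g c (g.simple_lt i hi), ← hx, e2]
  calc b * (v * xG g (D.simple i) a) * b⁻¹
      = (b * v * b⁻¹) * (b * xG g (D.simple i) a * b⁻¹) := by group
    _ = _ := by rw [e1]; group

/-- only the Borel subgroup carries regular unipotent elements into `U` -/
theorem mem_borel_of_regular (h : Std D A) {y : GL D.Idx F} (hy : y ∈ D.group F)
    (hc : ∀ i < D.rank, ∃ v ∈ UP F h.good (posBut D i), ∃ a : F, a ≠ 0 ∧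
      y * (v * xG h.good (D.simple i) a) * y⁻¹ ∈ D.posUnipotent F) :
    y ∈ D.borelSubgroup F := by
  have g := h.good
  obtain ⟨b, hb, n, hn, τ, hτ, v, hv, rfl⟩ := normal_form_exists h hy
  have hvU : v ∈ D.posUnipotent F := UP_toNeg_le g τ hv
  by_cases hall : ∀ i < D.rank, D.IsPosRoot (τ (D.simple i))
  · refine mul_mem (mul_mem hb (Subfield.monomial_mem_borel h hn hτ fun r hr => ?_)) (pos_le_borel hvU)
    refine (g.pos_iff _ (hτ.map.1 r hr.1)).2 fun l => ?_
    by_cases hl : l < D.rank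
    · rw [simple_eq_sum g hτ.map hr.1 l hl]
      refine Finset.sum_nonneg fun k hk => ?_
      have hp := hall k (Finset.mem_range.1 hk)
      exact mul_nonneg ((g.pos_iff r hr.1).1 hr k) ((g.pos_iff _ hp.1).1 hp l)
    · rw [g.a_zero _ (hτ.map.1 r hr.1) l (not_lt.1 hl)]
  push Not at hall
  obtain ⟨i, hi, hneg⟩ := hall
  exfalso
  obtain ⟨v₀, hv₀, a, ha, hmem⟩ := hc i hi
  set x := v₀ * xG g (D.simple i) a with hx
  set e := v * x * v⁻¹ with he
  have hne : n * e * n⁻¹ ∈ D.posUnipotent F := by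
    have := Grade.conj_posUnipotent g (inv_mem hb) hmem
    rw [inv_inv] at this
    rwa [show b⁻¹ * (b * n * v * x * (b * n * v)⁻¹) * b = n * e * n⁻¹ by
      rw [he]; group] at this
  have heU : e ∈ D.posUnipotent F :=
    mul_mem (mul_mem hvU (mul_mem (UP_posBut_le g i hv₀) (xG_mem_posUnipotent g (simple_pos g hi) a)))
      (inv_mem hvU)
  have heU' : e ∈ UL F g D.posRoots := by rwa [UL_posRoots g]
  obtain ⟨p, hp, q, hq, epq⟩ := pos_split h τ hτ.map.1 upList_posRoots heU'
  have hp' : n * p * n⁻¹ ∈ D.borelSubgroup F :=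
    conj_UP_le hτ (fun r hr => hr.1.1) (fun r t hr => xG_mem_borel g hr.2 t) hp
  have hq' : n * q * n⁻¹ ∈ D.negUnipotent F :=
    conj_UP_le hτ (fun r hr => hr.1.1) (fun r t hr => xG_mem_negUnipotent g hr.2 t) hq
  have hq1 : q = 1 := by
    have h1 : n * q * n⁻¹ = 1 := by
      rw [← Subgroup.mem_bot, ← borel_inf_negUnipotent h]
      refine ⟨?_, hq'⟩
      have := mul_mem (inv_mem hp') (pos_le_borel hne)
      rwa [epq, show (n * p * n⁻¹)⁻¹ * (n * (p * q) * n⁻¹) = n * q * n⁻¹ by group] at this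
    simpa using h1
  have heP : e ∈ UP F g (posBut D i) := by
    rw [epq, hq1, mul_one]
    refine UP_le (fun r t hr => xG_mem_UP g (P := posBut D i) ?_ t) hp
    exact ⟨hr.1, fun e' => hneg (e' ▸ hr.2)⟩
  have := Subfield.posBut_borel h hi (inv_mem (pos_le_borel hvU)) heP
  rw [he, inv_inv, show v⁻¹ * (v * x * v⁻¹) * v = x by group] at this
  have h2 := mul_mem (inv_mem hv₀) this
  rw [hx, inv_mul_cancel_left] at h2
  exact ha (Subfield.posBut_coord h hi h2)

/-- an element `t·y`, `t` diagonal, fixing regular unipotent elements: `t` is inner on the fundamental roots -/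
theorem diag_inner (h : Std D A) {y : GL D.Idx F} (hy : y ∈ D.group F) (ξ : ℕ → Fˣ)
    (hc : ∀ i < D.rank, ∃ v ∈ UP F h.good (posBut D i), ∃ a : F, a ≠ 0 ∧
      torX D A ξ * y * (v * xG h.good (D.simple i) a) * (torX D A ξ * y)⁻¹ =
        v * xG h.good (D.simple i) a) :
    ∃ c : Fin D.rank → Fˣ, ∀ i < D.rank, ξ i * chi D A c (D.simple i) = 1 := by
  have g := h.good
  have hyB : y ∈ D.borelSubgroup F := by
    refine mem_borel_of_regular h hy fun i hi => ?_
    obtain ⟨v, hv, a, ha, e⟩ := hc i hi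
    refine ⟨v, hv, a, ha, ?_⟩
    have e' : y * (v * xG g (D.simple i) a) * y⁻¹ =
        torX D A ξ⁻¹ * (v * xG g (D.simple i) a) * (torX D A ξ⁻¹)⁻¹ := by
      conv_rhs => rw [← e]
      rw [map_inv]; group
    rw [e']
    have hU : UP F g D.IsPosRoot = D.posUnipotent F := (posUnipotent_eq g).symm
    rw [← hU]
    refine torX_conj_UP g _ (fun r hr => hr.1) ?_
    rw [hU]
    exact mul_mem (UP_posBut_le g i hv) (xG_mem_posUnipotent g (simple_pos g hi) a)
  obtain ⟨u, hu, c, rfl⟩ := (mem_borel_iff g).1 hyB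
  refine ⟨c, fun i hi => ?_⟩
  obtain ⟨v, hv, a, ha, e⟩ := hc i hi
  obtain ⟨w, hw, ew⟩ := coord_conj h hi hu c hv a
  set p := D.simple i
  set k : F := (ξ i : F) * ((chi D A c p : F) * a) with hk
  have e2 : torX D A ξ * w * (torX D A ξ)⁻¹ * xG g p k = v * xG g p a := by
    rw [← e, show xG g p k = torX D A ξ * xG g p ((chi D A c p : F) * a) * (torX D A ξ)⁻¹ by
      rw [torX_conj_xG g ξ (g.simple_lt i hi), wt_simple g ξ hi, hk],
      show torX D A ξ * (u * tor D A c) * (v * xG g p a) * (torX D A ξ * (u * tor D A c))⁻¹ =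
        torX D A ξ * (u * tor D A c * (v * xG g p a) * (u * tor D A c)⁻¹) * (torX D A ξ)⁻¹ by group,
      ew]
    group
  have hw' := torX_conj_UP g ξ (fun r hr => hr.1.1) hw
  have h3 : xG g p (k - a) ∈ UP F g (posBut D i) := by
    have e3 : xG g p (k - a) = (torX D A ξ * w * (torX D A ξ)⁻¹)⁻¹ * v := by
      rw [sub_eq_add_neg, ← xG_add, ← xG_inv, mul_inv_eq_iff_eq_mul, mul_assoc, eq_inv_mul_iff_mul_eq, e2]
    rw [e3]
    exact mul_mem (inv_mem hw') hv
  have h4 := Subfield.posBut_coord h hi h3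
  refine Units.ext (mul_right_cancel₀ ha ?_)
  rw [Units.val_mul, Units.val_one, one_mul]
  linear_combination h4

end CfsgLib.Chev.E62F4
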