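import Cfsg.Agent.Lib.Chev.E62F4.Table
import Cfsg.Agent.Lib.Chev.WeylN
import Cfsg.Prelude.Def_SteinbergCover

/-!
The presented group of type F4 over two elements mapped into the group of type E6 in characteristic two.
-/

set_option autoImplicit false

namespace CfsgLib.Chev.E62F4

open Cfsg.Lie CfsgLib.Chev

variable {K : Type*} [Field K]

/-- the element over a root of type F4 -/
noncomputable def Y (r : ℕ) (t : K) : GL chevE6.Idx K :=
  ((orb r).map fun a => xG stdE6.good a t).prod

lemma shape_cases {r : ℕ} (hr : r < 48) :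
    orb r = [] ∨ (∃ a, orb r = [a]) ∨
      ∃ a b, orb r = [a, b] ∧ commPair chevE6 auxE6 a b = true ∧ commPair chevE6 auxE6 b a = true := by
  have h := shape r hr
  simp only [shapeChk, Bool.and_eq_true, List.all_eq_true, decide_eq_true_eq] at h
  obtain ⟨hc, hl⟩ := h
  match hL : orb r with
  | [] => exact Or.inl rfl
  | [a] => exact Or.inr (Or.inl ⟨a, rfl⟩)
  | [a, b] =>
    rw [hL] at hc
    exact Or.inr (Or.inr ⟨a, b, rfl, hc a (by simp) b (by simp), hc b (by simp) a (by simp)⟩)
  | a :: b :: c :: L =>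
    rw [hL] at hl
    simp only [List.length_cons] at hl
    omega

lemma Y_add {r : ℕ} (hr : r < 48) (t u : K) : Y r t * Y r u = Y r (t + u) := by
  unfold Y
  rcases shape_cases hr with h | ⟨a, h⟩ | ⟨a, b, h, -, hc⟩
  · simp [h]
  · simp [h, xG_add]
  · simp only [h, List.map_cons, List.map_nil, List.prod_cons, List.prod_nil, mul_one]
    rw [← xG_add stdE6.good a, ← xG_add stdE6.good b, mul_assoc,
      ← mul_assoc (xG stdE6.good b t), (commute_xG stdE6 hc t u).eq]
    group

lemma Y_zero (r : ℕ) : Y r (0 : K) = 1 := by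
  refine List.prod_eq_one fun y hy => ?_
  obtain ⟨a, -, rfl⟩ := List.mem_map.1 hy
  exact xG_zero _ _

lemma Y_reverse {r : ℕ} (hr : r < 48) (t : K) :
    ((orb r).reverse.map fun a => xG stdE6.good a t).prod = Y r t := by
  unfold Y
  rcases shape_cases hr with h | ⟨a, h⟩ | ⟨a, b, h, hc, -⟩
  · simp [h]
  · simp [h]
  · simp only [h, List.reverse_cons, List.reverse_nil, List.nil_append, List.cons_append, List.map_cons,
      List.map_nil, List.prod_cons, List.prod_nil, mul_one]
    exact (commute_xG stdE6 hc t t).eq.symm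

lemma Y_sq [CharP K 2] {r : ℕ} (hr : r < 48) (t : K) : Y r t * Y r t = 1 := by
  rw [Y_add hr, CharTwo.add_self_eq_zero, Y_zero]

lemma Y_even [CharP K 2] (r : ℕ) {c : ℤ} (hc : c % 2 = 0) : Y r (c : K) = 1 := by
  rw [(CharP.intCast_eq_zero_iff K 2 c).2 (Int.dvd_of_emod_eq_zero hc), Y_zero]

lemma odd_cast [CharP K 2] {c : ℤ} (hc : c % 2 = 1) : (c : K) = 1 := by
  obtain ⟨m, rfl⟩ : ∃ m, c = 2 * m + 1 := ⟨c / 2, by omega⟩
  rw [Int.cast_add, Int.cast_mul, Int.cast_ofNat, CharTwo.two_eq_zero, zero_mul, zero_add, Int.cast_one]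

lemma prod_ow (r : ℕ) (c : ℤ) :
    ((ow r c).map fun q => xG stdE6.good q.1 (q.2 : K)).prod = Y r (c : K) := by
  simp [ow, Y, List.map_map, Function.comp_def]

lemma prod_flatMap (L : List (ℕ × ℤ × ℕ × ℕ)) :
    ((L.flatMap fun e => ow e.1 e.2.1).map fun q => xG stdE6.good q.1 (q.2 : K)).prod =
      (L.map fun e => Y e.1 (e.2.1 : K)).prod := by
  induction L with
  | nil => simp
  | cons e L ih => rw [List.flatMap_cons, List.map_append, List.prod_append, prod_ow, ih,
      List.map_cons, List.prod_cons]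

/-- the commutator relation -/
def Rel (K : Type*) [Field K] (r s : ℕ) : Prop :=
  Y (K := K) s 1 * Y r 1 * Y s 1 * Y r 1 =
    ((auxF4.terms r s).map fun e => Y e.1 (e.2.1 : K)).prod

lemma Y_commute {r s : ℕ} (h : ∀ a ∈ orb r, ∀ b ∈ orb s, commPair chevE6 auxE6 a b = true) (t u : K) :
    Commute (Y r t) (Y s u) := by
  refine Commute.list_prod_left _ _ fun y hy => Commute.list_prod_right _ _ fun z hz => ?_
  obtain ⟨a, ha, rfl⟩ := List.mem_map.1 hy
  obtain ⟨b, hb, rfl⟩ := List.mem_map.1 hz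
  exact commute_xG stdE6 (h a ha b hb) t u

lemma rel_of_chk [CharP K 2] {r s : ℕ} (hr : r < 48) (hs : s < 48) (h1 : s ≠ r)
    (h2 : s ≠ auxF4.neg r) (h : relChk r s = true) : Rel K r s := by
  simp only [relChk, Bool.or_eq_true, decide_eq_true_eq, h1, h2, false_or] at h
  unfold Rel
  rcases h with h | h
  · simp only [easyPair, Bool.and_eq_true, List.all_eq_true, decide_eq_true_eq] at h
    rw [List.prod_eq_one (l := (auxF4.terms r s).map _) (fun y hy => by
      obtain ⟨e, he, rfl⟩ := List.mem_map.1 hy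
      exact Y_even _ (h.2 e he))]
    have hc := Y_commute h.1 (1 : K) (1 : K)
    calc Y s (1 : K) * Y r 1 * Y s 1 * Y r 1 = Y s 1 * (Y r 1 * Y s 1) * Y r 1 := by group
      _ = (Y s (1 : K) * Y s 1) * (Y r 1 * Y r 1) := by rw [hc.eq]; group
      _ = 1 := by rw [Y_sq hs, Y_sq hr, one_mul]
  · have := word_eq_of_check (F := K) stdE6.good h
    simp only [List.map_append, List.prod_append, prod_ow, prod_flatMap, Int.cast_one] at this
    exact this

/-- conjugation by a monomial element in characteristic two -/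
lemma nW_conj_xG [CharP K 2] {D : ChevalleyDatum} {A : Aux} (g : Good D A) : ∀ {w : List ℕ},
    Letters D w → ∀ {r : ℕ}, r < D.nroots → ∀ t : K,
      nW K g w * xG g r t * (nW K g w)⁻¹ = xG g (wf A w r) t
  | [], _, r, _, t => by simp [nW, wf]
  | i :: w, hw, r, hr, t => by
    have ih := nW_conj_xG g hw.tail hr t
    have hi := hw.head
    have hlt := wf_lt g hw.tail hr
    rw [show nW K g (i :: w) = nS K g i * nW K g w from by simp [nW],
      show nS K g i * nW K g w * xG g r t * (nS K g i * nW K g w)⁻¹ =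
        nS K g i * (nW K g w * xG g r t * (nW K g w)⁻¹) * (nS K g i)⁻¹ by group, ih,
      nS_conj_xG g hi hlt]
    have he : (A.eta i (wf A w r) : K) = 1 := by
      rcases g.eta_sign i hi _ hlt with e | e <;> simp [e, CharTwo.neg_eq]
    rw [he, one_mul]
    rfl

lemma orb_lt {r : ℕ} (hr : r < 48) {a : ℕ} (ha : a ∈ orb r) : a < chevE6.nroots := by
  have h := shape r hr
  simp only [shapeChk, Bool.and_eq_true, List.all_eq_true, decide_eq_true_eq] at h
  have := h.1 a ha a ha
  simp only [commPair, Bool.and_eq_true, decide_eq_true_eq] at this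
  exact this.1.1

lemma Y_conj [CharP K 2] {j r : ℕ} (hj : j < 4) (hr : r < 48) (t : K) :
    MulAut.conj (nW K stdE6.good (wj j)) (Y r t) = Y (auxF4.refl j r) t := by
  have hlt : auxF4.refl j r < 48 := stdF4.good.refl_lt j hj r hr
  have e : MulAut.conj (nW K stdE6.good (wj j)) (Y r t) =
      (((orb r).map (wf auxE6 (wj j))).map fun a => xG stdE6.good a t).prod := by
    rw [Y, map_list_prod, List.map_map, List.map_map]
    congr 1
    refine List.map_congr_left fun a ha => ?_
    simp only [Function.comp_def, MulAut.conj_apply]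
    exact nW_conj_xG stdE6.good (fun l hl => wj_letters j hj l hl) (orb_lt hr ha) t
  rw [e]
  rcases refl_orb j hj r hr with h | h
  · rw [h]; rfl
  · rw [h]; exact Y_reverse hlt t

lemma rel_refl [CharP K 2] {i r s : ℕ} (hi : i < 4) (hr : r < 48) (hs : s < 48) (h : Rel K r s) :
    Rel K (auxF4.refl i r) (auxF4.refl i s) := by
  have g := stdF4.good
  have e := congrArg (MulAut.conj (nW K stdE6.good (wj i))) h
  rw [map_mul, map_mul, map_mul, Y_conj hi hr, Y_conj hi hs, map_list_prod, List.map_map] at e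
  unfold Rel
  rw [e, terms_refl g hi hr hs, List.map_map]
  congr 1
  refine List.map_congr_left fun q hq => ?_
  have hq1 := (terms_mem g hr hs hq).1
  show MulAut.conj _ (Y q.1 (q.2.1 : K)) = Y (auxF4.refl i q.1) _
  rw [Y_conj hi hq1]
  congr 1
  have hη : ∀ u < 48, (auxF4.eta i u : K) = 1 := fun u hu => by
    rcases g.eta_sign i hi u hu with e | e <;> simp [e, CharTwo.neg_eq]
  push_cast
  rw [hη _ hq1, hη r hr, hη s hs]
  simp

theorem rel_all [CharP K 2] : ∀ r < 48, ∀ s < 48, s ≠ r → s ≠ auxF4.neg r → Rel K r s := by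
  have g := stdF4.good
  refine root_induction g (fun j hj hjr s hs h1 h2 => ?_) (fun i hi r hr ih s hs h1 h2 => ?_)
  · have := rel_rep j hjr
    rw [List.all_eq_true] at this
    exact rel_of_chk (g.simple_lt j hj) hs h1 h2 (this s (List.mem_range.2 hs))
  · have hs' := g.refl_lt i hi s hs
    have := rel_refl (K := K) hi hr hs' (ih _ hs'
      (fun e => h1 (by rw [← e, g.refl_refl i hi s hs]))
      (fun e => h2 (by rw [← g.refl_refl i hi s hs, e, g.refl_neg i hi r hr])))
    rwa [g.refl_refl i hi s hs] at this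

/-- the values on the generators -/
noncomputable def gmap [CharP K 2] (p : Fin chevF4.nroots × ZMod 2) : GL chevE6.Idx K :=
  Y p.1.val (ZMod.castHom (dvd_refl 2) K p.2)

lemma lift_stX [CharP K 2] (r : ℕ) (hr : r < 48) (t : ZMod 2) :
    FreeGroup.lift (gmap (K := K)) (chevF4.stX r t) = Y r (ZMod.castHom (dvd_refl 2) K t) := by
  rw [ChevalleyDatum.stX, dif_pos (show r < chevF4.nroots from hr), FreeGroup.lift_apply_of]
  rfl

lemma gmap_rels [CharP K 2] : ∀ g ∈ chevF4.steinbergRelsAB (ZMod 2),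
    FreeGroup.lift (gmap (K := K)) g = 1 := by
  rintro x (⟨r, t, u, hr, rfl⟩ | ⟨r, s, t, u, hr, hs, h1, h2, rfl⟩)
  · rw [map_mul, map_mul, map_inv, lift_stX r hr, lift_stX r hr, lift_stX r hr, map_add, Y_add hr]
    exact mul_inv_cancel _
  have g := stdF4.good
  rw [g.neg_eq r hr] at h2
  have hw : FreeGroup.lift (gmap (K := K)) (chevF4.stWord (chevF4.commWord (ZMod 2) r s t u)) =
      ((auxF4.terms r s).map fun e => Y e.1 (ZMod.castHom (dvd_refl 2) K
        ((e.2.1 : ZMod 2) * (-t) ^ e.2.2.1 * u ^ e.2.2.2))).prod := by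
    rw [ChevalleyDatum.stWord, ChevalleyDatum.commWord, commTerms_eq g hr hs, map_list_prod,
      List.map_map, List.map_map]
    congr 1
    refine List.map_congr_left fun e he => ?_
    simp only [Function.comp_def]
    exact lift_stX _ (terms_mem g hr hs he).1 _
  rw [map_mul, map_mul, map_mul, map_mul, map_inv, map_inv, map_inv, lift_stX r hr, lift_stX s hs,
    hw, mul_inv_eq_one]
  rcases (show ∀ x : ZMod 2, x = 0 ∨ x = 1 by decide) t with rfl | rfl <;>
    rcases (show ∀ x : ZMod 2, x = 0 ∨ x = 1 by decide) u with rfl | rfl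
  rotate_right
  · have hinv : ∀ v < 48, (Y v (1 : K))⁻¹ = Y v 1 := fun v hv => inv_eq_of_mul_eq_one_right (Y_sq hv 1)
    simp only [map_one, hinv r hr, hinv s hs]
    refine (rel_all r hr s hs h1 h2).trans ?_
    congr 1
    refine List.map_congr_left fun e _ => ?_
    rw [map_mul, map_mul, map_intCast, map_pow, map_pow, map_neg, map_one, CharTwo.neg_eq, one_pow,
      one_pow, mul_one, mul_one]
  all_goals
    rw [List.prod_eq_one (l := (auxF4.terms r s).map _) (fun y hy => by
      obtain ⟨e, he, rfl⟩ := List.mem_map.1 hy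
      obtain ⟨-, hi, hk, -⟩ := terms_mem g hr hs he
      simp [zero_pow (show e.2.2.1 ≠ 0 by omega), zero_pow (show e.2.2.2 ≠ 0 by omega), Y_zero])]
    simp [Y_zero]

/-- the homomorphism -/
noncomputable def psi (K : Type*) [Field K] [CharP K 2] :
    chevF4.SteinbergCover (ZMod 2) →* GL chevE6.Idx K :=
  PresentedGroup.toGroup gmap_rels

lemma psi_gen [CharP K 2] {r : ℕ} (hr : r < 48) (t : ZMod 2) :
    psi K (chevF4.scGen (ZMod 2) r t) = Y r (ZMod.castHom (dvd_refl 2) K t) := by
  rw [← lift_stX r hr t]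
  rfl

end CfsgLib.Chev.E62F4
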