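import Cfsg.Agent.Lib.Chev.E62F4.Hom
import Cfsg.Agent.Lib.Chev.E62F4.Coord
import Cfsg.Agent.Lib.Chev.Twist.Fam.E6
import Cfsg.Agent.Lib.Chev.Simple
import Cfsg.Agent.Lib.Steinberg.Presented
import Cfsg.Agent.S1054
import Cfsg.Agent.S1078
import Cfsg.Agent.S2397

/-!
Three classes of subgroups of type F4(2) in the twisted group of type E6 over four elements.
-/

set_option autoImplicit false
set_option maxRecDepth 100000

namespace CfsgLib.Chev.E62F4

open Cfsg.Lie Matrix CfsgLib.Chev CfsgLib.KnownB.ChevField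

theorem cover_equiv : Nonempty (chevF4.SteinbergCover (ZMod 2) ≃* ↥(chevF4.group (ZMod 2))) := by
  haveI : Fact (Nat.Prime 2) := ⟨Nat.prime_two⟩
  obtain ⟨A, h, hC⟩ := CfsgLib.Steinberg.data_of_mem (D := chevF4) (by simp)
  obtain ⟨h1, h2, -⟩ := CfsgLib.Steinberg.presProj_spec h hC (le_refl _)
    (CfsgLib.Steinberg.relsAB_subset (ZMod 2))
  obtain ⟨e, -⟩ := Cfsg.Agent.S2397.result (K := ZMod 2) chevF4 (by simp) (fun hmem => by
    simp only [List.mem_cons, List.not_mem_nil, or_false] at hmem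
    rcases hmem with hh | hh <;> exact absurd (congrArg ChevalleyDatum.rank hh) (by decide))
  have hz : Subgroup.center (chevF4.SteinbergCover (ZMod 2)) = ⊥ := by
    rw [eq_bot_iff]
    intro z hz
    have h' : e z ∈ Subgroup.center (chevF4.SteinbergGroup (ZMod 2)) := by
      rw [Subgroup.mem_center_iff] at hz ⊢
      intro w
      obtain ⟨w, rfl⟩ := e.surjective w
      rw [← map_mul, ← map_mul, hz w]
    rw [Cfsg.Agent.S1078.result chevF4 (by simp), Subgroup.mem_bot] at h'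
    exact Subgroup.mem_bot.2 (e.injective (h'.trans e.map_one.symm))
  refine ⟨MulEquiv.ofBijective _ ⟨(MonoidHom.ker_eq_bot_iff _).1 ?_, h1⟩⟩
  rw [h2]
  exact hz

variable {K : Type*} [Field K] [Fintype K]

/-- the elements used at the six fundamental roots -/
def reg : List (ℕ × List ℕ) :=
  [(33, [36]), (25, []), (27, [37]), (24, []), (27, [42]), (33, [56])]

theorem psi_injective [CharP K 2] : Function.Injective (psi K) := by
  haveI : Fact (Nat.Prime 2) := ⟨Nat.prime_two⟩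
  obtain ⟨e⟩ := cover_equiv
  haveI : IsSimpleGroup (chevF4.SteinbergCover (ZMod 2)) :=
    haveI := (Cfsg.Agent.S1054.result (F := ZMod 2) chevF4 (by simp)).1
    haveI : Nontrivial (chevF4.SteinbergCover (ZMod 2)) := e.symm.injective.nontrivial
    IsSimpleGroup.isSimpleGroup_of_surjective (e.symm : ↥(chevF4.group (ZMod 2)) →* _) e.symm.surjective
  rw [← MonoidHom.ker_eq_bot_iff]
  refine (Subgroup.Normal.eq_bot_or_eq_top (inferInstance : (psi K).ker.Normal)).resolve_right fun hk => ?_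
  have h1 : psi K (chevF4.scGen (ZMod 2) (chevF4.simple 3) 1) = 1 :=
    MonoidHom.mem_ker.1 (hk ▸ Subgroup.mem_top _)
  have hlt : chevF4.simple 3 < 48 := by decide +kernel
  rw [psi_gen hlt, map_one, Y, orb_simple 3 (by norm_num)] at h1
  simp only [List.getD_cons_succ, List.getD_cons_zero, List.map_cons, List.map_nil, List.prod_cons,
    List.prod_nil, mul_one] at h1
  exact one_ne_zero (xG_eq_one stdE6 (by decide +kernel) h1)

lemma maps_list {σ : K →+* K} {t : K} (ht : σ t = t) [CharP K 2] :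
    ∀ L : List ℕ, (∀ a ∈ L, a < chevE6.nroots ∧ symE6.e a % 2 = 1) →
      (E62.tw σ).Maps (L.map fun a => xG stdE6.good a t).prod
        ((L.map foldE62.r).map fun a => xG stdE6.good a t).prod
  | [], _ => by simpa using (E62.tw σ).maps_one
  | a :: L, h => by
    simp only [List.map_cons, List.prod_cons]
    refine Twist.Maps.mul _ ?_ (maps_list ht L fun b hb => h b (by simp [hb]))
    have h1 := (E62.tw σ).maps_xG (h a (by simp)).1 t
    rw [show (E62.tw σ).phi a t = (symE6.e a : K) * σ t from rfl, odd_cast (h a (by simp)).2, one_mul,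
      ht] at h1
    exact h1

lemma psi_range_le [CharP K 2] {σ : K →+* K} : (psi K).range ≤ (E62.tw σ).fix := by
  rw [MonoidHom.range_eq_map, ← PresentedGroup.closure_range_of, MonoidHom.map_closure,
    Subgroup.closure_le]
  rintro y ⟨_, ⟨⟨r, t⟩, rfl⟩, rfl⟩
  rw [SetLike.mem_coe, Twist.mem_fix, show psi K (PresentedGroup.of (r, t)) =
    Y r.val (ZMod.castHom (dvd_refl 2) K t) from PresentedGroup.toGroup.of gmap_rels]
  set u : K := ZMod.castHom (dvd_refl 2) K t with hu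
  have ht : σ u = u := by
    rcases (show ∀ x : ZMod 2, x = 0 ∨ x = 1 by decide) t with e | e <;> simp [hu, e]
  have hr : r.val < 48 := r.isLt
  have h1 := maps_list ht (orb r.val) fun a ha => ⟨orb_lt hr ha, (orb_fold _ hr a ha).2.1⟩
  by_cases hne : orb r.val = []
  · rw [hne] at h1
    unfold Y
    rw [hne]
    exact h1
  obtain ⟨a, ha⟩ := List.exists_mem_of_ne_nil _ hne
  rcases (orb_fold _ hr a ha).2.2 with e | e <;> rw [e] at h1
  · exact h1
  · rwa [Y_reverse hr] at h1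

lemma psi_fixed [CharP K 2] (σ : K →+* K) (x : chevF4.SteinbergCover (ZMod 2)) :
    Matrix.GeneralLinearGroup.map σ (psi K x) = psi K x := by
  have hle : (⊤ : Subgroup (chevF4.SteinbergCover (ZMod 2))) ≤
      ((Matrix.GeneralLinearGroup.map σ).comp (psi K)).eqLocus (psi K) := by
    rw [← PresentedGroup.closure_range_of, Subgroup.closure_le]
    rintro _ ⟨⟨r, t⟩, rfl⟩
    show Matrix.GeneralLinearGroup.map σ (psi K (PresentedGroup.of (r, t))) = psi K _
    rw [show psi K (PresentedGroup.of (r, t)) = Y r.val (ZMod.castHom (dvd_refl 2) K t) from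
      PresentedGroup.toGroup.of gmap_rels]
    unfold Y
    rw [map_list_prod, List.map_map]
    congr 1
    refine List.map_congr_left fun a _ => ?_
    rcases (show ∀ x : ZMod 2, x = 0 ∨ x = 1 by decide) t with e | e <;>
      simp [e, map_xG]
  exact hle (Subgroup.mem_top x)

lemma reg_spec [CharP K 2] {i : ℕ} (hi : i < 6) :
    ∃ m : chevF4.SteinbergCover (ZMod 2), ∃ v ∈ UP K stdE6.good (posBut chevE6 i),
      psi K m = v * xG stdE6.good (chevE6.simple i) 1 := by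
  have hs : chevE6.simple 0 = 56 ∧ chevE6.simple 1 = 46 ∧ chevE6.simple 2 = 42 ∧
      chevE6.simple 3 = 39 ∧ chevE6.simple 4 = 37 ∧ chevE6.simple 5 = 36 := by decide +kernel
  have ho : orb 33 = [36, 56] ∧ orb 27 = [37, 42] ∧ orb 25 = [39] ∧ orb 24 = [46] := by decide +kernel
  have hp : posBut chevE6 0 36 ∧ posBut chevE6 2 37 ∧ posBut chevE6 4 42 ∧ posBut chevE6 5 56 := by
    unfold posBut; decide +kernel
  have hc : commPair chevE6 auxE6 36 56 = true ∧ commPair chevE6 auxE6 37 42 = true := by decide +kernel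
  obtain ⟨s0, s1, s2, s3, s4, s5⟩ := hs
  obtain ⟨o33, o27, o25, o24⟩ := ho
  have key : ∀ r < 48, psi K (chevF4.scGen (ZMod 2) r 1) = Y r 1 := fun r hr => by
    rw [psi_gen hr, map_one]
  interval_cases i
  · refine ⟨chevF4.scGen (ZMod 2) 33 1, _, xG_mem_UP _ hp.1 1, ?_⟩
    rw [key 33 (by norm_num), Y, o33, s0]; simp
  · refine ⟨chevF4.scGen (ZMod 2) 24 1, 1, one_mem _, ?_⟩
    rw [key 24 (by norm_num), Y, o24, s1]; simp
  · refine ⟨chevF4.scGen (ZMod 2) 27 1, _, xG_mem_UP _ hp.2.1 1, ?_⟩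
    rw [key 27 (by norm_num), Y, o27, s2]; simp
  · refine ⟨chevF4.scGen (ZMod 2) 25 1, 1, one_mem _, ?_⟩
    rw [key 25 (by norm_num), Y, o25, s3]; simp
  · refine ⟨chevF4.scGen (ZMod 2) 27 1, _, xG_mem_UP _ hp.2.2.1 1, ?_⟩
    rw [key 27 (by norm_num), Y, o27, s4]; simpa using (commute_xG stdE6 hc.2 (1 : K) 1).eq
  · refine ⟨chevF4.scGen (ZMod 2) 33 1, _, xG_mem_UP _ hp.2.2.2 1, ?_⟩
    rw [key 33 (by norm_num), Y, o33, s5]; simpa using (commute_xG stdE6 hc.1 (1 : K) 1).eq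

/-- the invariant separating the outer diagonal automorphisms -/
def inv3 (ξ : ℕ → Kˣ) : Kˣ := ξ 0 * ξ 2 ^ 2 * ξ 4 * ξ 5 ^ 2

lemma inv3_chi (h3 : ∀ u : Kˣ, u ^ 3 = 1) (c : Fin chevE6.rank → Kˣ) :
    inv3 (fun i => chi chevE6 auxE6 c (chevE6.simple i)) = 1 := by
  have key : ∀ k : Fin 6, chi chevE6 auxE6 c (chevE6.simple k.val) =
      ∏ i : Fin 6, c (E62.ix i) ^ (E62.cm.getD i.val []).getD k.val 0 := fun k =>
    Finset.prod_congr rfl fun i _ => by
      rw [← E62.cartan_eq i k]; rfl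
  have k0 := key 0
  have k2 := key 2
  have k4 := key 4
  have k5 := key 5
  simp only [Fin.prod_univ_six, E62.cm, List.getD_cons_zero, List.getD_cons_succ, Fin.val_zero,
    Fin.val_one, Fin.val_two, show ((3 : Fin 6) : ℕ) = 3 from rfl, show ((4 : Fin 6) : ℕ) = 4 from rfl,
    show ((5 : Fin 6) : ℕ) = 5 from rfl, zpow_zero, mul_one, one_mul, _root_.zpow_neg, zpow_one,
    zpow_ofNat, pow_zero, pow_one] at k0 k2 k4 k5
  dsimp only [inv3]
  rw [k0, k2, k4, k5]
  calc _ = c (E62.ix 2) ^ 3 * c (E62.ix 5) ^ 3 * ((c (E62.ix 3))⁻¹) ^ 3 := by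
        apply Additive.ofMul.injective
        simp only [ofMul_mul, ofMul_inv, ofMul_pow]
        abel
    _ = 1 := by rw [h3, h3, h3]; simp

lemma inv3_mul (ξ η : ℕ → Kˣ) : inv3 (ξ * η) = inv3 ξ * inv3 η := by
  simp only [inv3, Pi.mul_apply, mul_pow]
  ac_rfl

lemma inv3_one : inv3 (1 : ℕ → Kˣ) = 1 := by simp [inv3]

lemma inv3_pow (ξ : ℕ → Kˣ) : ∀ n : ℕ, inv3 (ξ ^ n) = inv3 ξ ^ n
  | 0 => by simp [inv3_one]
  | n + 1 => by rw [pow_succ, pow_succ, inv3_mul, inv3_pow ξ n]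

lemma conj_twisted_mem {ξ : ℕ → Kˣ} {σ : K →+* K} (hσ : ∀ x, σ x = x ^ 2) (h3 : ∀ u : Kˣ, u ^ 3 = 1)
    (h1 : ξ 1 = 1) (h2 : ξ 3 = 1) (h5 : ξ 5 = ξ 0 ^ 2) (h4 : ξ 4 = ξ 2 ^ 2)
    {y : GL chevE6.Idx K} (hy : y ∈ twistedE6 K 2) :
    torX chevE6 auxE6 ξ * y * (torX chevE6 auxE6 ξ)⁻¹ ∈ twistedE6 K 2 := by
  have g := stdE6.good
  set T := torX chevE6 auxE6 ξ
  have hle : twistedE6 K 2 ≤ (twistedE6 K 2).comap (MulAut.conj T).toMonoidHom := by
    conv_lhs => rw [twistedE6, genSubgroup_eq g]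
    rw [Subgroup.closure_le]
    rintro y ⟨w, hw, rfl⟩
    simp only [SetLike.mem_coe, Subgroup.mem_comap, MulEquiv.coe_toMonoidHom, MulAut.conj_apply]
    have hs : chevE6.simple 0 = e6p1 ∧ chevE6.simple 1 = e6p2 ∧ chevE6.simple 2 = e6p3 ∧
        chevE6.simple 3 = e6p4 ∧ chevE6.simple 4 = e6p5 ∧ chevE6.simple 5 = e6p6 := by decide +kernel
    have hn : e6m1 = auxE6.neg e6p1 ∧ e6m2 = auxE6.neg e6p2 ∧ e6m3 = auxE6.neg e6p3 ∧
        e6m4 = auxE6.neg e6p4 ∧ e6m5 = auxE6.neg e6p5 ∧ e6m6 = auxE6.neg e6p6 := by decide +kernel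
    have hl : ∀ r ∈ [e6p1, e6p2, e6p3, e6p4, e6p5, e6p6, e6m1, e6m2, e6m3, e6m4, e6m5, e6m6],
        r < chevE6.nroots := by decide +kernel
    obtain ⟨s0, s1, s2, s3, s4, s5⟩ := hs
    obtain ⟨n1, n2, n3, n4, n5, n6⟩ := hn
    have w1 : wt chevE6 auxE6 ξ e6p1 = ξ 0 := by rw [← s0, wt_simple g ξ (show 0 < chevE6.rank by decide)]
    have w2 : wt chevE6 auxE6 ξ e6p2 = 1 := by rw [← s1, wt_simple g ξ (show 1 < chevE6.rank by decide), h1]
    have w3 : wt chevE6 auxE6 ξ e6p3 = ξ 2 := by rw [← s2, wt_simple g ξ (show 2 < chevE6.rank by decide)]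
    have w4 : wt chevE6 auxE6 ξ e6p4 = 1 := by rw [← s3, wt_simple g ξ (show 3 < chevE6.rank by decide), h2]
    have w5 : wt chevE6 auxE6 ξ e6p5 = ξ 2 ^ 2 := by rw [← s4, wt_simple g ξ (show 4 < chevE6.rank by decide), h4]
    have w6 : wt chevE6 auxE6 ξ e6p6 = ξ 0 ^ 2 := by rw [← s5, wt_simple g ξ (show 5 < chevE6.rank by decide), h5]
    have v1 : wt chevE6 auxE6 ξ e6m1 = (ξ 0)⁻¹ := by rw [n1, wt_neg g ξ (hl _ (by simp)), w1]
    have v2 : wt chevE6 auxE6 ξ e6m2 = 1 := by rw [n2, wt_neg g ξ (hl _ (by simp)), w2, inv_one]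
    have v3 : wt chevE6 auxE6 ξ e6m3 = (ξ 2)⁻¹ := by rw [n3, wt_neg g ξ (hl _ (by simp)), w3]
    have v4 : wt chevE6 auxE6 ξ e6m4 = 1 := by rw [n4, wt_neg g ξ (hl _ (by simp)), w4, inv_one]
    have v5 : wt chevE6 auxE6 ξ e6m5 = (ξ 2)⁻¹ ^ 2 := by rw [n5, wt_neg g ξ (hl _ (by simp)), w5, inv_pow]
    have v6 : wt chevE6 auxE6 ξ e6m6 = (ξ 0)⁻¹ ^ 2 := by rw [n6, wt_neg g ξ (hl _ (by simp)), w6, inv_pow]
    rcases hw with ⟨t, ht, r, hr, rfl⟩ | ⟨t, rs, hrs, rfl⟩
    · simp only [List.map_cons, List.map_nil, List.prod_cons, List.prod_nil, mul_one]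
      have hw1 : wt chevE6 auxE6 ξ r = 1 := by
        simp only [List.mem_cons, List.not_mem_nil, or_false] at hr
        rcases hr with rfl | rfl | rfl | rfl <;> assumption
      have hr' : r < chevE6.nroots := by
        simp only [List.mem_cons, List.not_mem_nil, or_false] at hr
        rcases hr with rfl | rfl | rfl | rfl <;> exact hl _ (by simp)
      rw [torX_conj_xG g ξ hr', hw1, Units.val_one, one_mul]
      exact E62.word1 hσ hr (by rw [hσ]; exact ht)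
    · simp only [List.map_cons, List.map_nil, List.prod_cons, List.prod_nil, mul_one]
      have hw2 : wt chevE6 auxE6 ξ rs.2 = wt chevE6 auxE6 ξ rs.1 ^ 2 := by
        simp only [List.mem_cons, List.not_mem_nil, or_false] at hrs
        rcases hrs with rfl | rfl | rfl | rfl
        · rw [w1, w6]
        · rw [v1, v6]
        · rw [w3, w5]
        · rw [v3, v5]
      have hr' : rs.1 < chevE6.nroots ∧ rs.2 < chevE6.nroots := by
        simp only [List.mem_cons, List.not_mem_nil, or_false] at hrs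
        rcases hrs with rfl | rfl | rfl | rfl <;> exact ⟨hl _ (by simp), hl _ (by simp)⟩
      rw [show T * (xG g rs.1 t * xG g rs.2 (t ^ 2)) * T⁻¹ =
        (T * xG g rs.1 t * T⁻¹) * (T * xG g rs.2 (t ^ 2) * T⁻¹) by group,
        torX_conj_xG g ξ hr'.1, torX_conj_xG g ξ hr'.2, hw2, Units.val_pow_eq_pow_val, ← mul_pow, ← hσ]
      exact E62.word2 hσ hrs _
  exact hle hy

set_option maxHeartbeats 2000000 in
theorem three_classes (hK : Fintype.card K = 4) :
    ∃ H : Fin 3 → Subgroup (twistedE6 K 2),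
      (∀ i, Nonempty ((H i) ≃* chevF4.group (ZMod 2))) ∧
      (∀ i j, i ≠ j → ∀ g : (twistedE6 K 2), (H i).map (MulAut.conj g).toMonoidHom ≠ H j) := by
  classical
  haveI : Fact (Nat.Prime 2) := ⟨Nat.prime_two⟩
  haveI hchar : CharP K 2 := charP_of_card_eq_prime_pow (p := 2) (f := 2) hK
  set σ : K →+* K := frobenius K 2 with hσdef
  have hσ : ∀ x, σ x = x ^ 2 := fun x => frobenius_def 2 x
  have hK2 : Fintype.card K = 2 ^ 2 := hK
  have htw := E62.twisted_eq_fix (q := 2) hσ hK2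
  have h3 : ∀ u : Kˣ, u ^ 3 = 1 := fun u => by
    have h := FiniteField.pow_card_sub_one_eq_one (u : K) u.ne_zero
    rw [hK] at h
    exact Units.ext (by simpa using h)
  obtain ⟨ω, hω⟩ : ∃ ω : Kˣ, ω ≠ 1 := by
    by_contra hcon
    push Not at hcon
    have hc3 : Nat.card Kˣ = 3 := by rw [Nat.card_units, Nat.card_eq_fintype_card, hK]
    haveI : Subsingleton Kˣ := ⟨fun a b => by rw [hcon a, hcon b]⟩
    rw [Nat.card_unique] at hc3
    omega
  set ξ : ℕ → Kˣ := fun i => [ω, 1, 1, 1, 1, ω ^ 2].getD i 1 with hξ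
  have hf : inv3 ξ = ω ^ 2 := by
    have : inv3 ξ = ω * (ω ^ 2) ^ 2 := by simp [inv3, hξ]
    rw [this, ← pow_mul, ← pow_succ', show (2 * 2 + 1) = 3 + 2 from rfl, pow_add, h3, one_mul]
  set T : ℕ → GL chevE6.Idx K := fun i => torX chevE6 auxE6 (ξ ^ i) with hT
  have hTmem : ∀ i, ∀ y ∈ twistedE6 K 2, T i * y * (T i)⁻¹ ∈ twistedE6 K 2 := by
    intro i y hy
    refine conj_twisted_mem hσ h3 ?_ ?_ ?_ ?_ hy <;> simp [hξ, Pi.pow_apply, ← pow_mul, mul_comm]
  have hM : (psi K).range ≤ twistedE6 K 2 := by rw [htw]; exact psi_range_le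
  let M : Fin 3 → Subgroup (GL chevE6.Idx K) := fun i =>
    (psi K).range.map (MulAut.conj (T i.val)).toMonoidHom
  have hMle : ∀ i, M i ≤ twistedE6 K 2 := by
    rintro i _ ⟨y, hy, rfl⟩
    exact hTmem i.val y (hM hy)
  refine ⟨fun i => (M i).subgroupOf (twistedE6 K 2), fun i => ?_, fun i j hij g hg => ?_⟩
  · obtain ⟨e⟩ := cover_equiv
    exact ⟨(Subgroup.subgroupOfEquivOfLe (hMle i)).trans
      (((MulAut.conj (T i.val)).subgroupMap (psi K).range).symm.trans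
        ((MonoidHom.ofInjective (psi_injective (K := K))).symm.trans e))⟩
  apply hij
  set G : GL chevE6.Idx K := (g : GL chevE6.Idx K) with hG
  have hGgrp : G ∈ chevE6.group K := (E62.tw σ).fix_le_group (htw ▸ g.2)
  set Φ : GL chevE6.Idx K →* GL chevE6.Idx K := Matrix.GeneralLinearGroup.map σ with hΦ
  have hΦG : Φ G ∈ chevE6.group K := group_map_le stdE6.good σ ⟨G, hGgrp, rfl⟩
  set hi := T i.val with hhi
  set hj := T j.val with hhj
  set n := hj⁻¹ * G * hi with hn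
  set ζ : ℕ → Kˣ := (ξ ^ i.val) * (ξ ^ j.val)⁻¹ with hζ
  have hfix : ∀ m, n⁻¹ * Φ n * psi K m * (n⁻¹ * Φ n)⁻¹ = psi K m := by
    intro m
    have hx : hi * psi K m * hi⁻¹ ∈ M i := ⟨_, ⟨m, rfl⟩, rfl⟩
    have h1 : MulAut.conj g ⟨_, hMle i hx⟩ ∈ (M j).subgroupOf (twistedE6 K 2) :=
      hg.le ⟨⟨_, hMle i hx⟩, hx, rfl⟩
    obtain ⟨_, ⟨m', rfl⟩, e⟩ := h1
    replace e : hj * psi K m' * hj⁻¹ = G * (hi * psi K m * hi⁻¹) * G⁻¹ := e
    have hnm : n * psi K m * n⁻¹ = psi K m' := by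
      rw [hn, show hj⁻¹ * G * hi * psi K m * (hj⁻¹ * G * hi)⁻¹ =
        hj⁻¹ * (G * (hi * psi K m * hi⁻¹) * G⁻¹) * hj by group, ← e]
      group
    have hΦnm : Φ n * psi K m * (Φ n)⁻¹ = psi K m' := by
      have h := congrArg Φ hnm
      simp only [map_mul, map_inv, hΦ, psi_fixed] at h
      exact h
    calc n⁻¹ * Φ n * psi K m * (n⁻¹ * Φ n)⁻¹ = n⁻¹ * (Φ n * psi K m * (Φ n)⁻¹) * n := by group
      _ = psi K m := by rw [hΦnm, ← hnm]; group
  have hsq : ∀ k : ℕ, Φ (T k) = torX chevE6 auxE6 ((ξ ^ k) ^ 2) := by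
    intro k
    rw [hΦ, hT, map_torX]
    rfl
  set a := hj * (Φ hj)⁻¹ with ha
  set c := Φ hi with hc
  have hac : a * c = torX chevE6 auxE6 ((ξ ^ j.val) * ((ξ ^ j.val) ^ 2)⁻¹ * (ξ ^ i.val) ^ 2) := by
    rw [ha, hc, hhi, hhj, hsq, hsq, hT, ← map_inv, ← map_mul, ← map_mul]
  have hbac : hi⁻¹ * (a * c) = torX chevE6 auxE6 ζ := by
    rw [hac, hhi, hT, ← map_inv, ← map_mul, hζ]
    congr 1
    apply Additive.ofMul.injective
    simp only [ofMul_mul, ofMul_inv, ofMul_pow]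
    abel
  set y := ((a * c)⁻¹ * G⁻¹ * (a * c)) * (c⁻¹ * Φ G * c) with hy
  have hyG : y ∈ chevE6.group K := by
    refine mul_mem ?_ ?_
    · rw [hac, ← map_inv]
      have := torX_conj_group (A := auxE6) stdE6.good
        ((ξ ^ j.val) * ((ξ ^ j.val) ^ 2)⁻¹ * (ξ ^ i.val) ^ 2)⁻¹ (inv_mem hGgrp)
      rwa [map_inv, inv_inv, ← map_inv] at this
    · rw [hc, hhi, hsq]
      have := torX_conj_group (A := auxE6) stdE6.good ((ξ ^ i.val) ^ 2)⁻¹ hΦG
      rwa [map_inv, inv_inv] at this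
  have hz : n⁻¹ * Φ n = torX chevE6 auxE6 ζ * y := by
    rw [← hbac, hy, hn, map_mul, map_mul, map_inv, ha, hc]
    group
  obtain ⟨d, hd⟩ := diag_inner stdE6 hyG ζ fun l hl => by
    obtain ⟨m, v, hv, em⟩ := reg_spec (K := K) (show l < 6 from hl)
    refine ⟨v, hv, 1, one_ne_zero, ?_⟩
    rw [← em, ← hz]
    exact hfix m
  have h1 : inv3 ζ = 1 := by
    have h2 := inv3_chi h3 d
    have h4 : inv3 (ζ * fun l => chi chevE6 auxE6 d (chevE6.simple l)) = 1 := by
      simp only [inv3, Pi.mul_apply, hd 0 (by decide), hd 2 (by decide), hd 4 (by decide),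
        hd 5 (by decide), one_pow, mul_one]
    rwa [inv3_mul, h2, mul_one] at h4
  have h5 : (ω ^ 2) ^ i.val = (ω ^ 2) ^ j.val := by
    rw [hζ, inv3_mul] at h1
    have h6 : inv3 ((ξ ^ j.val)⁻¹) = (inv3 (ξ ^ j.val))⁻¹ :=
      eq_inv_of_mul_eq_one_left (by rw [← inv3_mul, inv_mul_cancel, inv3_one])
    rwa [h6, mul_inv_eq_one, inv3_pow, inv3_pow, hf] at h1
  have hord : orderOf (ω ^ 2) = 3 := by
    refine orderOf_eq_prime (h3 _) fun e => hω ?_
    calc ω = ω * (ω ^ 2) := by rw [e, mul_one]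
      _ = 1 := by rw [← pow_succ', h3]
  exact Fin.ext (pow_injOn_Iio_orderOf (by rw [Set.mem_Iio, hord]; exact i.isLt)
    (by rw [Set.mem_Iio, hord]; exact j.isLt) h5)

end CfsgLib.Chev.E62F4
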