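import Cfsg.Agent.Lib.Chev.Twist.WordEq
import Cfsg.Agent.Lib.Chev.Weyl
import Cfsg.Agent.Lib.Chev.Twist.GraphData
import Cfsg.Agent.Lib.Chev.Data.CheckE6
import Cfsg.Agent.Lib.Chev.Data.CheckF4
import Cfsg.Agent.Lib.Chev.Data.FoldCheckE62

/-!
The root system of type F4 as the orbits of the symmetry on the roots of type E6, and the relations modulo two.
-/

set_option autoImplicit false
set_option maxRecDepth 100000

namespace CfsgLib.Chev.E62F4

open Cfsg.Lie CfsgLib.Chev

/-- the orbits -/
def orbTab : List (List ℕ) := [[0], [1], [2], [3, 5], [6], [8], [11], [4, 16], [7, 17], [9, 19], [12, 26], [10, 22], [13, 30], [14, 33], [15, 35], [18], [20], [27], [21, 23], [28, 31], [29, 34], [24], [32], [25], [46], [39], [47], [37, 42], [40, 43], [48, 50], [44], [51], [53], [36, 56], [38, 57], [41, 58], [49, 61], [45, 59], [52, 62], [54, 64], [55, 67], [60], [63], [65], [66, 68], [69], [70], [71]]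

/-- the orbit over a root of type F4 -/
def orb (r : ℕ) : List ℕ := orbTab.getD r []

/-- the word of a root element -/
def ow (r : ℕ) (c : ℤ) : List (ℕ × ℤ) := (orb r).map fun a => (a, c)

/-- the two orbits commute and the commutator vanishes modulo two -/
noncomputable def easyPair (r s : ℕ) : Bool :=
  ((orb r).all fun a => (orb s).all fun b => commPair chevE6 auxE6 a b) &&
  ((auxF4.terms r s).all fun e => decide (e.2.1 % 2 = 0))

/-- the commutator relation for two roots -/
noncomputable def relChk (r s : ℕ) : Bool :=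
  decide (s = r) || decide (s = auxF4.neg r) || easyPair r s ||
  wordEqCheck chevE6 auxE6 2 (ow s 1 ++ ow r 1 ++ ow s 1 ++ ow r 1)
    ((auxF4.terms r s).flatMap fun e => ow e.1 e.2.1)

theorem rel_rep : ∀ j ∈ auxF4.reps, ((List.range 48).all fun s => relChk (chevF4.simple j) s) = true := by
  decide +kernel

/-- every orbit is a root or a commuting pair, all in range -/
noncomputable def shapeChk (r : ℕ) : Bool :=
  ((orb r).all fun a => (orb r).all fun b => commPair chevE6 auxE6 a b) &&
  decide ((orb r).length ≤ 2)

theorem shape : ∀ r < 48, shapeChk r = true := by decide +kernel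

/-- the fundamental reflections of type F4 as words -/
def wj (j : ℕ) : List ℕ := [[0, 5], [2, 4], [3], [1]].getD j []

theorem wj_letters : ∀ j < 4, ∀ l ∈ wj j, l < 6 := by decide +kernel

theorem refl_orb : ∀ j < 4, ∀ r < 48,
    (orb r).map (wf auxE6 (wj j)) = orb (auxF4.refl j r) ∨
      (orb r).map (wf auxE6 (wj j)) = (orb (auxF4.refl j r)).reverse := by
  decide +kernel

theorem orb_fold : ∀ r < 48, ∀ a ∈ orb r, foldE62.r a ∈ orb r ∧ symE6.e a % 2 = 1 ∧
    ((orb r).map foldE62.r = orb r ∨ (orb r).map foldE62.r = (orb r).reverse) := by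
  decide +kernel

theorem orb_simple : ∀ j < 4, orb (chevF4.simple j) =
    [[36, 56], [37, 42], [39], [46]].getD j [] := by decide +kernel

end CfsgLib.Chev.E62F4
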